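import Groth.Agent.InsepRed.Main
import Groth.Agent.GeomRedSub.Exists
import Groth.Agent.H23.RedSub
import Groth.Agent.FDescent.MaxPoint
import Groth.Prelude.Def_CurvBase

/-!
# A scheme locally of finite type with finitely many components becomes, after a finite purely
inseparable extension and reduction, geometrically reduced
-/

set_option autoImplicit false
set_option linter.style.haveILetI false

open AlgebraicGeometry CategoryTheory Limits TensorProduct

namespace Groth.Agent.InsepRedScheme

universe u

theorem exists_dense_affine {X : Scheme.{u}} (hirr : (irreducibleComponents (X : Type u)).Finite) :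
    ∃ (T : Scheme.{u}) (π : T ⟶ X), IsAffine T ∧ LocallyOfFiniteType π ∧ DenseRange π.base := by
  haveI : Finite ↥(irreducibleComponents (X : Type u)) := hirr.to_subtype
  have hgen : ∀ Z : ↥(irreducibleComponents (X : Type u)), ∃ η : X, closure {η} = Z.1 := fun Z => by
    obtain ⟨η, h, -⟩ := FDescent.exists_maximal_of_mem_irreducibleComponents Z.2
    exact ⟨η, h.symm⟩
  choose η hη using hgen
  have hW : ∀ Z, ∃ W : X.Opens, IsAffineOpen W ∧ η Z ∈ W := fun Z => by
    obtain ⟨W, h1, h2, -⟩ := exists_isAffineOpen_mem_and_subset (x := η Z) (U := ⊤) trivial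
    exact ⟨W, h1, h2⟩
  choose W hW hηW using hW
  haveI : ∀ Z, IsAffine ((W Z : X.Opens) : Scheme.{u}) := hW
  refine ⟨∐ fun Z => (W Z : Scheme.{u}), Sigma.desc fun Z => (W Z).ι, inferInstance,
    IsZariskiLocalAtSource.sigmaDesc fun Z => inferInstance, dense_iff_inter_open.2 fun O hO hne => ?_⟩
  obtain ⟨x, hx⟩ := hne
  let Z : ↥(irreducibleComponents (X : Type u)) :=
    ⟨irreducibleComponent x, irreducibleComponent_mem_irreducibleComponents x⟩
  have hsp : η Z ⤳ x := specializes_iff_mem_closure.2 (by rw [hη Z]; exact mem_irreducibleComponent)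
  refine ⟨η Z, hsp.mem_open hO hx,
    (Sigma.ι (fun Z => (W Z : Scheme.{u})) Z).base ⟨η Z, hηW Z⟩, ?_⟩
  rw [← Scheme.Hom.comp_apply, Sigma.ι_desc]
  rfl

theorem dense_minimalPrimes (B : Type u) [CommRing B] :
    Dense {q : PrimeSpectrum B | q.asIdeal ∈ minimalPrimes B} := by
  refine dense_iff_inter_open.2 fun O hO hne => ?_
  obtain ⟨x, hx⟩ := hne
  obtain ⟨q, hq, hle⟩ := Ideal.exists_minimalPrimes_le (J := x.asIdeal) (bot_le : (⊥ : Ideal B) ≤ _)
  exact ⟨⟨q, hq.1.1⟩, ((PrimeSpectrum.le_iff_specializes ⟨q, hq.1.1⟩ x).1 hle).mem_open hO hx, hq⟩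

theorem main {k : Type u} [Field k] {X : Scheme.{u}} (f : X ⟶ Spec (CommRingCat.of k)) [LocallyOfFiniteType f]
    (hirr : (irreducibleComponents (X : Type u)).Finite) :
    ∃ (k' : Type u) (_ : Field k') (_ : Algebra k k'), FiniteDimensional k k' ∧ IsPurelyInseparable k k' ∧
      GeometricallyReduced ((pullback f (Spec.map (CommRingCat.ofHom (algebraMap k k')))).nilradical.subschemeι ≫
        pullback.snd f (Spec.map (CommRingCat.ofHom (algebraMap k k')))) := by
  obtain ⟨T, π, hT, hπ, hdense⟩ := exists_dense_affine hirr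
  let A : CommRingCat.{u} := Γ(T, ⊤)
  let t : Spec A ⟶ X := T.isoSpec.inv ≫ π
  have htd : DenseRange t.base := by
    show Dense (Set.range (T.isoSpec.inv ≫ π))
    rw [show Set.range (T.isoSpec.inv ≫ π) = Set.range π from by
      ext x
      constructor
      · rintro ⟨a, rfl⟩
        exact ⟨T.isoSpec.inv a, rfl⟩
      · rintro ⟨a, rfl⟩
        obtain ⟨b, rfl⟩ := T.isoSpec.inv.surjective a
        exact ⟨b, rfl⟩]
    exact hdense
  obtain ⟨φ, hφ⟩ := Spec.map_surjective (t ≫ f)
  letI : Algebra k A := φ.hom.toAlgebra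
  haveI : LocallyOfFiniteType (Spec.map φ) := by
    rw [hφ]
    infer_instance
  haveI : Algebra.FiniteType k A := (HasRingHomProperty.Spec_iff (P := @LocallyOfFiniteType) (φ := φ)).mp inferInstance
  obtain ⟨k', iF, iA, hfin, hpi, hgr⟩ := InsepRed.exists_geomReduced_quotient (k := k) (A : Type u)
  refine ⟨k', iF, iA, hfin, hpi, ?_⟩
  let s : Spec (CommRingCat.of k') ⟶ Spec (CommRingCat.of k) := Spec.map (CommRingCat.ofHom (algebraMap k k'))
  let P := pullback f s
  let a : Spec (CommRingCat.of A) ⟶ Spec (CommRingCat.of k) := Spec.map (CommRingCat.ofHom (algebraMap k A))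
  have ha : a = t ≫ f := hφ
  let ι : pullback a s ⟶ P := pullback.map a s f s t (𝟙 _) (𝟙 _) (by rw [Category.comp_id, ha]) (by simp)
  let B := (k' ⊗[k] (A : Type u)) ⧸ nilradical (k' ⊗[k] (A : Type u))
  let e : Spec (CommRingCat.of (k' ⊗[k] (A : Type u))) ⟶ pullback a s :=
    (pullbackSpecIso k k' A).inv ≫ (pullbackSymmetry _ _).hom
  let m : Spec (CommRingCat.of B) ⟶ Spec (CommRingCat.of (k' ⊗[k] (A : Type u))) :=
    Spec.map (CommRingCat.ofHom (Ideal.Quotient.mk _))
  let v : Spec (CommRingCat.of B) ⟶ P := m ≫ e ≫ ι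
  have hv_snd : v ≫ pullback.snd f s = Spec.map (CommRingCat.ofHom (algebraMap k' B)) := by
    have he : e ≫ pullback.snd a s = Spec.map (CommRingCat.ofHom (Algebra.TensorProduct.includeLeftRingHom)) :=
      (Category.assoc _ _ _).trans ((congrArg ((pullbackSpecIso k k' A).inv ≫ ·)
        (pullbackSymmetry_hom_comp_snd _ _)).trans (pullbackSpecIso_inv_fst k k' A))
    have hι' : ι ≫ pullback.snd f s = pullback.snd a s :=
      (pullback.lift_snd _ _ _).trans (Category.comp_id _)
    simp only [v, m, Category.assoc, hι', he, ← Spec.map_comp]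
    rfl
  have hvd : DenseRange v.base := by
    show Dense (Set.range v)
    haveI : UniversallyOpen s := by infer_instance
    have hι : Set.range ι = pullback.fst f s ⁻¹' Set.range t := by
      rw [Scheme.Pullback.range_map]
      simp
    have h1 : Set.range v = Set.range ι := by
      refine Set.Subset.antisymm (fun x ⟨b, hb⟩ => ⟨(m ≫ e) b, hb⟩) ?_
      rintro _ ⟨z, rfl⟩
      obtain ⟨z, rfl⟩ := e.surjective z
      have : z ∈ Set.range m := by
        have h := range_comap_of_surjective _ (Ideal.Quotient.mk (nilradical (k' ⊗[k] (A : Type u))))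
          Ideal.Quotient.mk_surjective
        rw [Ideal.mk_ker, PrimeSpectrum.zeroLocus_nilradical] at h
        exact h.symm ▸ Set.mem_univ z
      obtain ⟨b, rfl⟩ := this
      exact ⟨b, rfl⟩
    rw [h1, hι]
    exact htd.preimage (pullback.fst f s).isOpenMap
  let z := P.nilradical.subschemeι
  haveI : IsReduced P.nilradical.subscheme := H23.RedSub.isReduced_nilradical P
  haveI : _root_.IsReduced B := (Ideal.isRadical_iff_quotient_reduced _).mp (Ideal.radical_isRadical _)
  have hzs : Set.range z = Set.univ := by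
    rw [Scheme.IdealSheafData.range_subschemeι, Scheme.support_nilradical]
    rfl
  obtain ⟨w, hw⟩ := H23.RedSub.exists_lift_closed v z (hzs ▸ Set.subset_univ _)
  have hwd : DenseRange w.base := by
    rw [DenseRange, z.isEmbedding.isInducing.dense_iff]
    intro x
    have : Set.range v = z '' Set.range w := by
      rw [← hw, ← Set.range_comp]
      rfl
    rw [← this, hvd.closure_range]
    trivial
  refine GeomRedSub.geometricallyReduced_of_dense _ (w.base '' {q : PrimeSpectrum B | q.asIdeal ∈ minimalPrimes B})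
    (hwd.dense_image w.continuous (dense_minimalPrimes B)) ?_
  rintro _ ⟨q, hq, rfl⟩
  let K := Localization.AtPrime q.asIdeal
  haveI : Ring.KrullDimLE 0 K := .of_isLocalization _ hq _
  letI : Field K := (Ring.KrullDimLE.isField_of_isReduced (R := K)).toField
  haveI : Algebra.IsGeometricallyReduced k' B := hgr
  refine ⟨K, inferInstance, inferInstance, GeomField.gr_localization B K q.asIdeal.primeCompl,
    Spec.map (CommRingCat.ofHom (algebraMap B K)) ≫ w, ?_, IsLocalRing.closedPoint K, ?_⟩
  · rw [Category.assoc, ← Category.assoc w, hw, hv_snd, ← Spec.map_comp]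
    congr 1
  · show w (PrimeSpectrum.comap (algebraMap B K) (IsLocalRing.closedPoint K)) = w q
    congr 1
    exact PrimeSpectrum.ext (IsLocalization.AtPrime.comap_maximalIdeal K q.asIdeal)

end Groth.Agent.InsepRedScheme
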